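import Cfsg.Agent.CosetEnum.WE7C.Data

set_option autoImplicit false
set_option maxRecDepth 100000
set_option Elab.async false

/-! Deductions for the coset table on 16 cosets (generated certificate). -/

namespace CfsgLib.CosetEnum.WE7C

def B0 : ℕ := 0x848c4284e394b10e5861

theorem tree0 : foldR (tree 5 tb id parN parX) 4 0 0 = B0 := by decide +kernel

theorem goodT0 : enum.Good B0 := enum.good_tree_block 4 0 _ _ enum.good_zero tree0

theorem good0 : enum.Good B0 := goodT0

def D1 : ℕ := 0xff00000000ff00000000ff00000000ff00000000ff00000000ff00000000ff00000000ff00000000ff00000000ff00000000ff00000000ff00000000ff00000000ff00000000ff00000000ff00000000ff00000000ff00000000ff0000000e0d0200000d070100000e040200000c0301000008020100000c010200000e0b020000080a0300000d080200000b06030000070602000004060300000c0401000009040100000804010000080301000007010300000601030000020d020000090b010000050b020000020a0200000508030000030803000001080200000607010000030702000001070100000106020000050402000003040200000204020000000401000003030200000003010000020202000000020100000001020000001200000000110000000010000000000f000000030d020000020b020000090202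

def B1 : ℕ := 0xffffffffffffffffffff

theorem step1 : runDed 5 tb id wd 15 19 6 D1 B0 = B1 := by decide +kernel

theorem good1 : enum.Good B1 :=
  enum.good_ded 6 D1 15 19 _ _ rfl rfl good0 step1

end CfsgLib.CosetEnum.WE7C
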